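import Mathlib.CategoryTheory.Monoidal.Cartesian.Grp
import Mathlib.Tactic.Group

/-!
Linearizations of the trivial bundle `X ⊗ G` for a group object `G`, on functors of points.
-/

open CategoryTheory MonoidalCategory CartesianMonoidalCategory
open scoped MonObj GrpObj

namespace Groth.Agent.TorsorLinLib

universe v u

variable {C : Type u} [Category.{v} C] [CartesianMonoidalCategory C] {G X : C} [GrpObj G]
  {Γ : Type} [Group Γ] {ρ : Γ → (X ⟶ X)}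

theorem hom_ext_lift {Z : C} {f g : X ⊗ G ⟶ Z}
    (h : lift (fst X G) (snd X G) ≫ f = lift (fst X G) (snd X G) ≫ g) : f = g := by
  simpa using h

theorem cocycle_one (hρ₁ : ρ 1 = 𝟙 X) {φ : Γ → (X ⟶ G)}
    (hφ : ∀ σ τ : Γ, φ (σ * τ) = φ σ * (ρ σ ≫ φ τ)) : φ 1 = 1 := by
  have h := hφ 1 1
  rw [one_mul, hρ₁, Category.id_comp] at h
  exact (left_eq_mul.mp h)

theorem linearization_of_cocycle (hρ₁ : ρ 1 = 𝟙 X) (hρ : ∀ σ τ : Γ, ρ (σ * τ) = ρ σ ≫ ρ τ)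
    {φ : Γ → (X ⟶ G)} (hφ : ∀ σ τ : Γ, φ (σ * τ) = φ σ * (ρ σ ≫ φ τ))
    {lam : Γ → (X ⊗ G ⟶ X ⊗ G)}
    (hlam : ∀ (σ : Γ) (T : C) (x : T ⟶ X) (g : T ⟶ G),
      lift x g ≫ lam σ = lift (x ≫ ρ σ) ((x ≫ φ σ)⁻¹ * g)) :
    lam 1 = 𝟙 (X ⊗ G) ∧ (∀ σ τ : Γ, lam (σ * τ) = lam σ ≫ lam τ) ∧
      (∀ σ : Γ, lam σ ≫ fst X G = fst X G ≫ ρ σ) ∧
      ∀ (σ : Γ) (T : C) (x : T ⟶ X) (g h : T ⟶ G),
        lift x (g * h) ≫ lam σ ≫ snd X G = (lift x g ≫ lam σ ≫ snd X G) * h := by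
  refine ⟨?_, ?_, ?_, ?_⟩
  · apply hom_ext_lift
    rw [hlam, hρ₁, cocycle_one hρ₁ hφ, MonObj.comp_one]
    simp
  · intro σ τ
    apply hom_ext_lift
    rw [hlam, ← Category.assoc, hlam, hlam, hρ, hφ, MonObj.comp_mul, mul_inv_rev,
      Category.assoc, Category.assoc, mul_assoc]
  · intro σ
    apply hom_ext_lift
    rw [← Category.assoc, hlam]
    simp
  · intro σ T x g h
    rw [← Category.assoc, hlam, ← Category.assoc, hlam]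
    simp [mul_assoc]

theorem existsUnique_cocycle (hρ₁ : ρ 1 = 𝟙 X) (hρ : ∀ σ τ : Γ, ρ (σ * τ) = ρ σ ≫ ρ τ)
    {lam : Γ → (X ⊗ G ⟶ X ⊗ G)} (hlam : ∀ σ τ : Γ, lam (σ * τ) = lam σ ≫ lam τ)
    (hfst : ∀ σ : Γ, lam σ ≫ fst X G = fst X G ≫ ρ σ)
    (hG : ∀ (σ : Γ) (T : C) (x : T ⟶ X) (g h : T ⟶ G),
      lift x (g * h) ≫ lam σ ≫ snd X G = (lift x g ≫ lam σ ≫ snd X G) * h) :
    ∃! φ : Γ → (X ⟶ G), (∀ σ τ : Γ, φ (σ * τ) = φ σ * (ρ σ ≫ φ τ)) ∧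
      ∀ (σ : Γ) (T : C) (x : T ⟶ X) (g : T ⟶ G),
        lift x g ≫ lam σ = lift (x ≫ ρ σ) ((x ≫ φ σ)⁻¹ * g) := by
  obtain ⟨φ, hφdef⟩ : ∃ φ : Γ → (X ⟶ G), ∀ σ, φ σ = (lift (𝟙 X) 1 ≫ lam σ ≫ snd X G)⁻¹ :=
    ⟨_, fun _ => rfl⟩
  have key : ∀ (σ : Γ) (T : C) (x : T ⟶ X) (g : T ⟶ G),
      lift x g ≫ lam σ = lift (x ≫ ρ σ) ((x ≫ φ σ)⁻¹ * g) := by
    intro σ T x g
    apply CartesianMonoidalCategory.hom_ext
    · rw [Category.assoc, hfst, lift_fst_assoc, lift_fst]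
    · have h := hG σ T x 1 g
      rw [one_mul] at h
      rw [Category.assoc, h, lift_snd, hφdef, ← GrpObj.comp_inv, inv_inv, ← Category.assoc x,
        comp_lift, Category.comp_id, MonObj.comp_one]
  refine ⟨φ, ⟨?_, key⟩, ?_⟩
  · intro σ τ
    have h : (lift (𝟙 X) 1 ≫ lam (σ * τ)) ≫ snd X G
        = (lift (𝟙 X) 1 ≫ lam σ ≫ lam τ) ≫ snd X G := by rw [hlam]
    rw [key, ← Category.assoc (lift (𝟙 X) 1), key, key] at h
    simp only [lift_snd, Category.id_comp, mul_one, ← mul_inv_rev, inv_inj] at h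
    exact h
  · rintro φ' ⟨-, h'⟩
    funext σ
    have h := congrArg (· ≫ snd X G) (h' σ X (𝟙 X) 1)
    simp only [Category.assoc, lift_snd, Category.id_comp, mul_one] at h
    rw [hφdef, h, inv_inv]

theorem iso_iff_cohomologous
    {φ φ' : Γ → (X ⟶ G)} {lam lam' : Γ → (X ⊗ G ⟶ X ⊗ G)}
    (hlam : ∀ (σ : Γ) (T : C) (x : T ⟶ X) (g : T ⟶ G),
      lift x g ≫ lam σ = lift (x ≫ ρ σ) ((x ≫ φ σ)⁻¹ * g))
    (hlam' : ∀ (σ : Γ) (T : C) (x : T ⟶ X) (g : T ⟶ G),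
      lift x g ≫ lam' σ = lift (x ≫ ρ σ) ((x ≫ φ' σ)⁻¹ * g)) :
    (∃ Φ : X ⊗ G ⟶ X ⊗ G, IsIso Φ ∧ Φ ≫ fst X G = fst X G ∧
      (∀ (T : C) (x : T ⟶ X) (g h : T ⟶ G),
        lift x (g * h) ≫ Φ ≫ snd X G = (lift x g ≫ Φ ≫ snd X G) * h) ∧
      ∀ σ : Γ, lam σ ≫ Φ = Φ ≫ lam' σ) ↔
    ∃ ψ : X ⟶ G, ∀ σ : Γ, φ σ = ψ⁻¹ * φ' σ * (ρ σ ≫ ψ) := by
  constructor
  · rintro ⟨Φ, -, hfst, hG, hcomm⟩
    obtain ⟨ψ, hψ⟩ : ∃ ψ : X ⟶ G, lift (𝟙 X) 1 ≫ Φ ≫ snd X G = ψ := ⟨_, rfl⟩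
    have key : ∀ (T : C) (x : T ⟶ X) (g : T ⟶ G),
        lift x g ≫ Φ = lift x ((x ≫ ψ) * g) := by
      intro T x g
      apply CartesianMonoidalCategory.hom_ext
      · rw [Category.assoc, hfst, lift_fst, lift_fst]
      · have h := hG T x 1 g
        rw [one_mul] at h
        rw [Category.assoc, h, lift_snd, ← hψ, ← Category.assoc x, comp_lift, Category.comp_id,
          MonObj.comp_one]
    refine ⟨ψ, fun σ => ?_⟩
    have h := congrArg (fun f => lift (𝟙 X) (1 : X ⟶ G) ≫ f ≫ snd X G) (hcomm σ)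
    beta_reduce at h
    rw [← Category.assoc, ← Category.assoc _ (lam σ), hlam, key,
      ← Category.assoc, ← Category.assoc _ Φ, key, hlam', lift_snd, lift_snd] at h
    simp only [Category.id_comp, mul_one] at h
    calc φ σ = ((φ' σ)⁻¹ * ψ)⁻¹ * (ρ σ ≫ ψ) := by rw [← h]; group
      _ = ψ⁻¹ * φ' σ * (ρ σ ≫ ψ) := by group
  · rintro ⟨ψ, hψ⟩
    refine ⟨lift (fst X G) ((fst X G ≫ ψ) * snd X G),
      ⟨⟨lift (fst X G) ((fst X G ≫ ψ)⁻¹ * snd X G), ?_, ?_⟩⟩, lift_fst _ _, ?_, ?_⟩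
    · rw [comp_lift, MonObj.comp_mul, GrpObj.comp_inv, lift_fst, lift_fst_assoc, lift_snd,
        inv_mul_cancel_left, lift_fst_snd]
    · rw [comp_lift, MonObj.comp_mul, lift_fst, lift_fst_assoc, lift_snd,
        mul_inv_cancel_left, lift_fst_snd]
    · intro T x g h
      simp [MonObj.comp_mul, mul_assoc]
    · intro σ
      apply hom_ext_lift
      rw [← Category.assoc, hlam, ← Category.assoc _ _ (lam' σ), comp_lift, comp_lift,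
        MonObj.comp_mul, MonObj.comp_mul, lift_fst, lift_fst_assoc, lift_snd, lift_fst,
        lift_fst_assoc, lift_snd, hlam', hψ σ, MonObj.comp_mul, MonObj.comp_mul,
        GrpObj.comp_inv, Category.assoc]
      congr 1
      group

end Groth.Agent.TorsorLinLib
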